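import Mathlib
import Cfsg.Prelude.Def_OddOrderLocal
import Cfsg.Prelude.Def_CaseTheorems
import Cfsg.Agent.Lib.MaxClass.SmallCentralizer
import Cfsg.Agent.Lib.TwoGroup.Recognition
import Cfsg.Agent.Lib.RankTwo.MetacyclicAction

/-!
Self-centralising four-groups, quaternion groups and homocyclic subgroups of metacyclic 2-groups
(helper90).
-/

set_option autoImplicit false

namespace Cfsg.Agent.Lib.Fusion90

open Subgroup

/-- A metacyclic group of order sixteen has more than two squares. -/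
theorem not_sixteen {R : Type*} [Group R] [Finite R] (hm : Cfsg.IsMetacyclic R)
    (hc : Nat.card R = 16) (e : R) (he : e * e = 1) (hsq : ∀ r : R, r * r = 1 ∨ r * r = e) :
    False := by
  obtain ⟨K, hKn, hK, hQ⟩ := hm
  obtain ⟨k, rfl⟩ := (Subgroup.isCyclic_iff_exists_zpowers_eq_top K).1 hK
  obtain ⟨y, hy⟩ := isCyclic_iff_exists_zpowers_eq_top.1 hQ
  obtain ⟨y, rfl⟩ := QuotientGroup.mk'_surjective _ y
  have h16 := Subgroup.card_eq_card_quotient_mul_card_subgroup (zpowers k)
  have hQc : Nat.card (R ⧸ zpowers k) =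
      orderOf ((QuotientGroup.mk' (zpowers k)) y) := by
    rw [← Nat.card_zpowers, hy, Subgroup.card_top]
  rw [hc, hQc, Nat.card_zpowers] at h16
  have h4 : ∀ r : R, r ^ 4 = 1 := fun r => by
    rw [show 4 = 2 * 2 from rfl, pow_mul, pow_two r, pow_two]
    rcases hsq r with h | h <;> simp [h, he]
  have hk4 := Nat.le_of_dvd (by norm_num) (orderOf_dvd_of_pow_eq_one (h4 k))
  have hy4 : orderOf ((QuotientGroup.mk' (zpowers k)) y) ≤ 4 :=
    Nat.le_of_dvd (by norm_num) (orderOf_dvd_of_pow_eq_one (by rw [← map_pow, h4, map_one]))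
  rcases hsq k with hk | hk
  · have hk2 := Nat.le_of_dvd two_pos (orderOf_dvd_of_pow_eq_one
      (show k ^ 2 = 1 by rw [pow_two, hk]))
    nlinarith
  · have hy2 : orderOf ((QuotientGroup.mk' (zpowers k)) y) ≤ 2 :=
      Nat.le_of_dvd two_pos (orderOf_dvd_of_pow_eq_one (by
        rw [← map_pow, QuotientGroup.mk'_apply, QuotientGroup.eq_one_iff, pow_two]
        rcases hsq y with h | h <;> rw [h]
        · exact one_mem _
        · rw [← hk]; exact mul_mem (mem_zpowers k) (mem_zpowers k)))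
    nlinarith

section Swap

variable {G : Type*} [Group G] [Finite G] {n : ℕ}

/-- A homocyclic subgroup with an element outside swapping a basis is not inside a metacyclic
group. -/
theorem not_metacyclic_of_swap {N : ℕ} (hN : N = 2 ^ n) (hn : 2 ≤ n) (hm : Cfsg.IsMetacyclic G)
    (ψ : Multiplicative (ZMod N × ZMod N) →* G) (hψ : Function.Injective ψ)
    {x : G} (hx : x ∉ ψ.range) (hx2 : x * x ∈ ψ.range)
    (hswap : ∀ v, x * ψ v * x⁻¹ = ψ (Multiplicative.ofAdd v.toAdd.swap)) : False := by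
  classical
  haveI : NeZero N := ⟨by rw [hN]; positivity⟩
  set sw : Multiplicative (ZMod N × ZMod N) → Multiplicative (ZMod N × ZMod N) :=
    fun v => Multiplicative.ofAdd v.toAdd.swap with hsw
  obtain ⟨c, hc⟩ := hx2
  have hcfix : sw c = c := hψ (by
    show ψ (Multiplicative.ofAdd c.toAdd.swap) = ψ c
    rw [← hswap, hc, mul_assoc, mul_inv_cancel_right])
  have hc12 : c.toAdd.1 = c.toAdd.2 := (congrArg (fun v => v.toAdd.2) hcfix)
  -- an involution outside
  set w : Multiplicative (ZMod N × ZMod N) := Multiplicative.ofAdd (-c.toAdd.1, 0) with hw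
  set x' := x * ψ w with hx'
  have hx'out : x' ∉ ψ.range := fun h => hx (by
    simpa [hx'] using mul_mem h (inv_mem (⟨w, rfl⟩ : ψ w ∈ ψ.range)))
  have hx'swap : ∀ v, x' * ψ v * x'⁻¹ = ψ (sw v) := fun v => by
    rw [hx', show x * ψ w * ψ v * (x * ψ w)⁻¹ = x * (ψ w * ψ v * (ψ w)⁻¹) * x⁻¹ by group,
      ← map_inv, ← map_mul, ← map_mul, mul_comm w v, mul_inv_cancel_right, hswap]
  have hx'2 : x' * x' = 1 := by
    rw [hx', show x * ψ w * (x * ψ w) = (x * ψ w * x⁻¹) * (x * x) * ψ w by group, hswap, ← hc,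
      ← map_mul, ← map_mul, ← map_one ψ]
    congr 1
    apply Multiplicative.toAdd.injective
    refine Prod.ext ?_ ?_ <;> simp [hw, hc12]
  -- the elements whose square is trivial or the diagonal involution
  set t : ZMod N := ((2 ^ (n - 1) : ℕ) : ZMod N) with ht
  have h2n : 2 ^ n = 2 * 2 ^ (n - 1) := by rw [← pow_succ']; congr 1; omega
  have ht2 : t + t = 0 := by
    rw [ht, ← Nat.cast_add, ← two_mul, ← h2n, ← hN, ZMod.natCast_self]
  have ht0 : t ≠ 0 := by
    rw [ht, Ne, ZMod.natCast_eq_zero_iff]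
    intro h
    have := Nat.le_of_dvd (by positivity) h
    have : 0 < 2 ^ (n - 1) := by positivity
    omega
  have htor : ∀ s : ZMod N, s + s = 0 ↔ (s = 0 ∨ s = t) := by
    intro s
    refine ⟨fun h => ?_, ?_⟩
    · rw [← ZMod.natCast_zmod_val s, ← Nat.cast_add, ← two_mul, ZMod.natCast_eq_zero_iff] at h
      obtain ⟨d, hd⟩ := h
      have hlt := ZMod.val_lt s
      have hN2 : N = 2 * 2 ^ (n - 1) := hN.trans h2n
      have hd' : s.val = 2 ^ (n - 1) * d := by
        have h' : 2 * s.val = 2 * 2 ^ (n - 1) * d := hd.trans (congrArg (· * d) hN2)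
        rw [mul_assoc] at h'
        omega
      have hlt' : 2 ^ (n - 1) * d < 2 ^ (n - 1) * 2 := by omega
      rcases Nat.le_one_iff_eq_zero_or_eq_one.1 (Nat.lt_succ_iff.1 (Nat.lt_of_mul_lt_mul_left hlt'))
        with rfl | rfl
      · left; rw [← ZMod.natCast_zmod_val s, hd', mul_zero, Nat.cast_zero]
      · right; rw [ht, ← ZMod.natCast_zmod_val s, hd', mul_one]
    · rintro (rfl | rfl)
      · exact add_zero 0
      · exact ht2
  set A : AddSubgroup (ZMod N × ZMod N) :=
    { carrier := {v | v + v = 0 ∨ v + v = (t, t)}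
      zero_mem' := Or.inl (add_zero 0)
      add_mem' := by
        intro a b ha hb
        have e : a + b + (a + b) = (a + a) + (b + b) := by abel
        have htt : ((t, t) : ZMod N × ZMod N) + (t, t) = 0 := by simp [ht2]
        rcases ha with ha | ha <;> rcases hb with hb | hb <;>
          simp only [Set.mem_setOf_eq, e, ha, hb, zero_add, add_zero, htt, true_or, or_true]
      neg_mem' := by
        intro a ha
        have e : -a + -a = -(a + a) := by abel
        have htt : -((t, t) : ZMod N × ZMod N) = (t, t) := by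
          simp [neg_eq_iff_add_eq_zero, ht2]
        rcases ha with ha | ha <;>
          simp only [Set.mem_setOf_eq, e, ha, neg_zero, htt, true_or, or_true] } with hA
  set q : ZMod N := ((2 ^ (n - 2) : ℕ) : ZMod N) with hq
  have hq2 : q + q = t := by
    rw [hq, ht, ← Nat.cast_add, ← two_mul, ← pow_succ']
    congr 2; omega
  have hAcard : Nat.card A = 8 := by
    have hqt : ∀ s : ZMod N, s + s = t ↔ (s = q ∨ s = q + t) := by
      intro s
      have e : s + s = t ↔ (s - q) + (s - q) = 0 := by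
        rw [show s - q + (s - q) = (s + s) - (q + q) by abel, hq2, sub_eq_zero]
      rw [e, htor, sub_eq_zero, sub_eq_iff_eq_add']
    have hS : ∀ s : ZMod N, s ∈ ({0, t} : Finset (ZMod N)) ↔ s + s = 0 := fun s => by simp [htor]
    have hT : ∀ s : ZMod N, s ∈ ({q, q + t} : Finset (ZMod N)) ↔ s + s = t := fun s => by simp [hqt]
    have h3 : q ≠ q + t := fun h => ht0 (by simpa using h)
    have hAeq : (A : Set (ZMod N × ZMod N)) =
        ((({0, t} : Finset (ZMod N)) ×ˢ ({0, t} : Finset (ZMod N))) ∪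
          (({q, q + t} : Finset (ZMod N)) ×ˢ ({q, q + t} : Finset (ZMod N))) : Finset _) := by
      ext v
      rw [Finset.mem_coe, Finset.mem_union, Finset.mem_product, Finset.mem_product, hS, hS, hT, hT]
      show v + v = 0 ∨ v + v = (t, t) ↔ _
      rw [Prod.ext_iff, Prod.ext_iff]
      rfl
    have hdisj : Disjoint (({0, t} : Finset (ZMod N)) ×ˢ ({0, t} : Finset (ZMod N)))
        (({q, q + t} : Finset (ZMod N)) ×ˢ ({q, q + t} : Finset (ZMod N))) := by
      rw [Finset.disjoint_left]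
      intro v hv hv'
      rw [Finset.mem_product, hS] at hv
      rw [Finset.mem_product, hT] at hv'
      exact ht0 (hv'.1.symm.trans hv.1)
    rw [show Nat.card A = Nat.card (A : Set (ZMod N × ZMod N)) from rfl, hAeq,
      Nat.card_coe_set_eq, Set.ncard_coe_finset, Finset.card_union_of_disjoint hdisj,
      Finset.card_product, Finset.card_product, Finset.card_pair (Ne.symm ht0),
      Finset.card_pair h3]
  have hswA : ∀ v : Multiplicative (ZMod N × ZMod N), v.toAdd ∈ A → (sw v).toAdd ∈ A := by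
    intro v hv
    rcases hv with hv | hv
    · left
      have := congrArg Prod.swap hv
      simpa [hsw] using this
    · right
      have := congrArg Prod.swap hv
      simpa [hsw] using this
  -- the subgroup of order sixteen
  set B : Subgroup G := A.toSubgroup.map ψ with hB
  have hmemB : ∀ {v}, v.toAdd ∈ A → ψ v ∈ B := fun {v} hv => ⟨v, hv, rfl⟩
  have hBnorm : ∀ b ∈ B, x' * b * x' ∈ B := by
    rintro _ ⟨v, hv, rfl⟩
    have : x'⁻¹ = x' := inv_eq_of_mul_eq_one_right hx'2
    have h := hx'swap v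
    rw [this] at h
    rw [h]
    exact hmemB (hswA v hv)
  set R : Subgroup G :=
    { carrier := {g | g ∈ B ∨ x' * g ∈ B}
      one_mem' := Or.inl B.one_mem
      mul_mem' := by
        rintro a b (ha | ha) (hb | hb)
        · exact Or.inl (B.mul_mem ha hb)
        · refine Or.inr ?_
          have h := B.mul_mem (hBnorm a ha) hb
          rwa [show x' * a * x' * (x' * b) = x' * a * (x' * x') * b by group, hx'2, mul_one,
            mul_assoc] at h
        · refine Or.inr ?_
          rw [← mul_assoc]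
          exact B.mul_mem ha hb
        · refine Or.inl ?_
          have h := B.mul_mem (hBnorm _ ha) hb
          rwa [show x' * (x' * a) * x' * (x' * b) = (x' * x') * a * (x' * x') * b by group, hx'2,
            one_mul, mul_one] at h
      inv_mem' := by
        rintro a (ha | ha)
        · exact Or.inl (B.inv_mem ha)
        · refine Or.inr ?_
          have h := hBnorm _ (B.inv_mem ha)
          rwa [show x' * (x' * a)⁻¹ * x' = x' * a⁻¹ * (x'⁻¹ * x') by group, inv_mul_cancel,
            mul_one] at h } with hR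
  have hxB : x' ∉ B := fun ⟨v, _, hv⟩ => hx'out ⟨v, hv⟩
  have hRcard : Nat.card R = 16 := by
    have hBcard : Nat.card B = 8 := by
      rw [hB, Subgroup.card_map_of_injective hψ]
      exact hAcard
    have hBR : B ≤ R := fun b hb => Or.inl hb
    have hidx : B.relIndex R = 2 := by
      refine TwoGroup.relIndex_eq_two (w := x') (Or.inr (by rw [hx'2]; exact B.one_mem)) hxB hBR ?_
      rintro g (hg | hg)
      · exact Or.inl hg
      · refine Or.inr ?_
        have h := hBnorm _ hg
        rwa [show x' * (x' * g) * x' = (x' * x') * (g * x') by group, hx'2, one_mul] at h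
    have h := Subgroup.relIndex_mul_relIndex ⊥ B R bot_le hBR
    rw [Subgroup.relIndex_bot_left, Subgroup.relIndex_bot_left, hBcard, hidx] at h
    exact h.symm
  have hsq : ∀ v : Multiplicative (ZMod N × ZMod N), v.toAdd ∈ A →
      (v * v = 1 ∨ v * v = Multiplicative.ofAdd (t, t)) ∧
        (sw v * v = 1 ∨ sw v * v = Multiplicative.ofAdd (t, t)) := by
    intro v hv
    refine ⟨?_, ?_⟩
    · rcases hv with hv | hv
      · exact Or.inl (Multiplicative.toAdd.injective hv)
      · exact Or.inr (Multiplicative.toAdd.injective hv)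
    · set s := v.toAdd.2 + v.toAdd.1 with hs
      have hval : (sw v * v).toAdd = (s, s) :=
        Prod.ext rfl (add_comm v.toAdd.1 v.toAdd.2)
      have hs2 : s + s = 0 := by
        rw [hs, show v.toAdd.2 + v.toAdd.1 + (v.toAdd.2 + v.toAdd.1) =
          (v.toAdd + v.toAdd).1 + (v.toAdd + v.toAdd).2 by simp; abel]
        rcases hv with hv | hv <;> simp [hv, ht2]
      rcases (htor s).1 hs2 with h | h
      · exact Or.inl (Multiplicative.toAdd.injective (by rw [hval, h]; rfl))
      · exact Or.inr (Multiplicative.toAdd.injective (by rw [hval, h]; rfl))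
  have htA : Multiplicative.toAdd (Multiplicative.ofAdd ((t, t) : ZMod N × ZMod N)) ∈ A :=
    Or.inl (by simp [ht2])
  refine not_sixteen (RankTwo.isMetacyclic_of_injective R.subtype R.subtype_injective hm) hRcard
    ⟨ψ (Multiplicative.ofAdd (t, t)), Or.inl (hmemB htA)⟩ (Subtype.ext ?_) ?_
  · show ψ _ * ψ _ = 1
    rw [← map_mul, ← ofAdd_add, Prod.mk_add_mk, ht2, ← map_one ψ]
    rfl
  · rintro ⟨g, hg | hg⟩
    · obtain ⟨v, hv, rfl⟩ := hg
      rcases (hsq v hv).1 with h | h
      · exact Or.inl (Subtype.ext (by show ψ v * ψ v = 1; rw [← map_mul, h, map_one]))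
      · exact Or.inr (Subtype.ext (by show ψ v * ψ v = ψ _; rw [← map_mul, h]))
    · obtain ⟨v, hv, hvg⟩ := hg
      have hgv : g = x' * ψ v := by rw [hvg, ← mul_assoc, hx'2, one_mul]
      have hgg : g * g = ψ (sw v * v) := by
        rw [hgv, map_mul, ← hx'swap, show x' * ψ v * (x' * ψ v) = x' * ψ v * x' * ψ v by group,
          inv_eq_of_mul_eq_one_right hx'2]
      rcases (hsq v hv).2 with h | h
      · exact Or.inl (Subtype.ext (by show g * g = 1; rw [hgg, h, map_one]))
      · exact Or.inr (Subtype.ext (by show g * g = ψ _; rw [hgg, h]))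

/-- A homocyclic subgroup of a metacyclic group, of exponent at least four, has no element outside
acting nontrivially modulo squares with square inside. -/
theorem not_moved_homocyclic (hn : 2 ≤ n) (hm : Cfsg.IsMetacyclic G) (Q : Subgroup G)
    (e : Q ≃* Multiplicative (ZMod (2 ^ n)) × Multiplicative (ZMod (2 ^ n))) {x : G}
    (hxN : ∀ q ∈ Q, x * q * x⁻¹ ∈ Q) (hx : x ∉ Q) (hx2 : x * x ∈ Q) {a : G} (ha : a ∈ Q)
    (hmove : ∀ w ∈ Q, x * a * x⁻¹ ≠ a * (w * w)) : False := by
  classical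
  obtain ⟨N, hN⟩ : ∃ N, N = 2 ^ n := ⟨_, rfl⟩
  rw [← hN] at e
  haveI : NeZero N := ⟨by rw [hN]; positivity⟩
  have hQc : ∀ u ∈ Q, ∀ v ∈ Q, u * v = v * u := fun u hu v hv => by
    have h := e.injective (show e (⟨u, hu⟩ * ⟨v, hv⟩) = e (⟨v, hv⟩ * ⟨u, hu⟩) by
      rw [map_mul, map_mul, mul_comm])
    exact congrArg Subtype.val h
  set b := x * a * x⁻¹ with hb
  have hbQ : b ∈ Q := hxN a ha
  have hxb : x * b * x⁻¹ = a := by
    rw [hb, show x * (x * a * x⁻¹) * x⁻¹ = (x * x) * a * (x * x)⁻¹ by group, hQc _ hx2 _ ha,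
      mul_inv_cancel_right]
  have hexp : ∀ u ∈ Q, u ^ N = 1 := fun u hu => by
    have hz : ∀ z : Multiplicative (ZMod N), z ^ N = 1 := fun z =>
      Multiplicative.toAdd.injective (by rw [toAdd_pow, nsmul_eq_mul, ZMod.natCast_self, zero_mul]; rfl)
    have h : e ((⟨u, hu⟩ : Q) ^ N) = e 1 := by
      rw [map_pow, map_one]
      exact Prod.ext (hz _) (hz _)
    exact congrArg Subtype.val (e.injective h)
  have hcomm : Commute a b := hQc _ ha _ hbQ
  set f : Multiplicative (ZMod N × ZMod N) → G := fun v => a ^ v.toAdd.1.val * b ^ v.toAdd.2.val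
    with hf
  have hmodp : ∀ u ∈ Q, ∀ k : ℕ, u ^ (k % N) = u ^ k := fun u hu k => by
    conv_rhs => rw [← Nat.mod_add_div k N, pow_add, pow_mul, hexp u hu, one_pow, mul_one]
  let ψ : Multiplicative (ZMod N × ZMod N) →* G :=
    { toFun := f
      map_one' := by simp [hf]
      map_mul' := fun u v => by
        simp only [hf, toAdd_mul, Prod.fst_add, Prod.snd_add, ZMod.val_add, hmodp a ha,
          hmodp b hbQ, pow_add]
        rw [mul_assoc, mul_assoc, ← mul_assoc (a ^ v.toAdd.1.val),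
          (hcomm.pow_pow _ _).eq, mul_assoc] }
  have hψcast : ∀ i j : ℕ, ψ (Multiplicative.ofAdd ((i : ZMod N), (j : ZMod N))) = a ^ i * b ^ j := by
    intro i j
    show a ^ _ * b ^ _ = _
    rw [toAdd_ofAdd, ZMod.val_natCast, ZMod.val_natCast, hmodp a ha, hmodp b hbQ]
  have hle : ψ.range ≤ Q := by
    rintro _ ⟨v, rfl⟩
    exact mul_mem (Q.pow_mem ha _) (Q.pow_mem hbQ _)
  -- squares in `Q`
  have hhalf : ∀ u ∈ Q, u ^ 2 ^ (n - 1) = 1 → ∃ w ∈ Q, u = w * w := by
    intro u hu h
    set v := e ⟨u, hu⟩ with hv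
    have hvp : v ^ 2 ^ (n - 1) = 1 := by
      rw [hv, ← map_pow, ← map_one e]
      exact congrArg e (Subtype.ext h)
    have hdiv : ∀ z : Multiplicative (ZMod N), z ^ 2 ^ (n - 1) = 1 → ∃ w, z = w * w := by
      intro z hz
      have h0 := congrArg Multiplicative.toAdd hz
      rw [toAdd_pow, toAdd_one, nsmul_eq_mul, ← ZMod.natCast_zmod_val z.toAdd, ← Nat.cast_mul,
        ZMod.natCast_eq_zero_iff] at h0
      have h2 : 2 ^ (n - 1) * 2 ∣ 2 ^ (n - 1) * z.toAdd.val := by
        rw [← pow_succ, show n - 1 + 1 = n by omega, ← hN]; exact h0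
      obtain ⟨d, hd⟩ := Nat.dvd_of_mul_dvd_mul_left (by positivity) h2
      exact ⟨Multiplicative.ofAdd (d : ZMod N), Multiplicative.toAdd.injective (by
        rw [toAdd_mul, toAdd_ofAdd, ← Nat.cast_add, ← two_mul, ← hd, ZMod.natCast_zmod_val])⟩
    obtain ⟨w₁, h1⟩ := hdiv v.1 (congrArg Prod.fst hvp)
    obtain ⟨w₂, h2⟩ := hdiv v.2 (congrArg Prod.snd hvp)
    refine ⟨e.symm (w₁, w₂), SetLike.coe_mem _, ?_⟩
    have : (⟨u, hu⟩ : Q) = e.symm (w₁, w₂) * e.symm (w₁, w₂) := e.injective (by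
      rw [map_mul, e.apply_symm_apply, ← hv]
      exact Prod.ext h1 h2)
    exact congrArg Subtype.val this
  have hanot : ¬ ∃ w ∈ Q, a = w * w := by
    rintro ⟨w, hw, rfl⟩
    refine hmove (w⁻¹ * (x * w * x⁻¹)) (mul_mem (inv_mem hw) (hxN w hw)) ?_
    have hc := hQc w hw _ (hxN w hw)
    rw [hb]
    calc x * (w * w) * x⁻¹ = (x * w * x⁻¹) * (x * w * x⁻¹) := by group
      _ = w * (w * (w⁻¹ * (x * w * x⁻¹))) * (w⁻¹ * (x * w * x⁻¹)) := by
          rw [mul_inv_cancel_left]
          have h3 : w * (x * w * x⁻¹) * w⁻¹ = x * w * x⁻¹ := by rw [hc, mul_inv_cancel_right]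
          rw [← mul_assoc (w * (x * w * x⁻¹)) w⁻¹, h3]
      _ = w * w * (w⁻¹ * (x * w * x⁻¹) * (w⁻¹ * (x * w * x⁻¹))) := by group
  have hbnot : ¬ ∃ w ∈ Q, b = w * w := by
    rintro ⟨w, hw, h⟩
    refine hanot ⟨x * w * x⁻¹, hxN w hw, ?_⟩
    rw [← hxb, h]; group
  have hψinj : Function.Injective ψ := by
    rw [← MonoidHom.ker_eq_bot_iff]
    by_contra hne
    have hp : IsPGroup 2 (Multiplicative (ZMod N × ZMod N)) :=
      IsPGroup.of_card (n := n + n) (by
        rw [Nat.card_congr Multiplicative.toAdd, Nat.card_prod, Nat.card_zmod, hN, pow_add])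
    have : Fact (Nat.Prime 2) := ⟨Nat.prime_two⟩
    haveI : Nontrivial ψ.ker := (Subgroup.nontrivial_iff_ne_bot _).2 hne
    obtain ⟨k, hk0, hk⟩ := (hp.to_subgroup ψ.ker).nontrivial_iff_card.1 inferInstance
    obtain ⟨⟨v, hv⟩, hvo⟩ := exists_prime_orderOf_dvd_card' (G := ψ.ker) 2
      (hk ▸ dvd_pow_self 2 hk0.ne')
    have hvo' : orderOf v = 2 := by rw [← hvo]; exact Subgroup.orderOf_coe (⟨v, hv⟩ : ψ.ker)
    have hv2 := pow_orderOf_eq_one v
    rw [hvo'] at hv2
    have hcoord : ∀ z : ZMod N, z + z = 0 → ∃ i < 2, z = ((2 ^ (n - 1) * i : ℕ) : ZMod N) := by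
      intro z hz
      rw [← ZMod.natCast_zmod_val z, ← Nat.cast_add, ← two_mul, ZMod.natCast_eq_zero_iff] at hz
      have h2n : 2 ^ n = 2 * 2 ^ (n - 1) := by rw [← pow_succ']; congr 1; omega
      have hN2 : N = 2 * 2 ^ (n - 1) := hN.trans h2n
      obtain ⟨d, hd⟩ := hz
      have hd' : z.val = 2 ^ (n - 1) * d := by
        have h' : 2 * z.val = 2 * 2 ^ (n - 1) * d := hd.trans (congrArg (· * d) hN2)
        rw [mul_assoc] at h'
        omega
      refine ⟨d, ?_, by rw [← hd', ZMod.natCast_zmod_val]⟩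
      have hlt := ZMod.val_lt z
      exact Nat.lt_of_mul_lt_mul_left (show 2 ^ (n - 1) * d < 2 ^ (n - 1) * 2 by omega)
    have hv2' := congrArg Multiplicative.toAdd hv2
    rw [toAdd_pow, two_nsmul, toAdd_one] at hv2'
    obtain ⟨i, hi, hi'⟩ := hcoord v.toAdd.1 (congrArg Prod.fst hv2')
    obtain ⟨j, hj, hj'⟩ := hcoord v.toAdd.2 (congrArg Prod.snd hv2')
    have hv1 : (a ^ i * b ^ j) ^ 2 ^ (n - 1) = 1 := by
      rw [(hcomm.pow_pow i j).mul_pow, ← pow_mul, ← pow_mul, mul_comm i, mul_comm j, ← hψcast,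
        ← hi', ← hj']
      exact hv
    have hne1 : v ≠ 1 := fun h => by simp [h] at hvo'
    obtain ⟨w, hw, hww⟩ := hhalf _ (mul_mem (Q.pow_mem ha _) (Q.pow_mem hbQ _)) hv1
    interval_cases i <;> interval_cases j
    · exact hne1 (Multiplicative.toAdd.injective (Prod.ext (by simpa using hi') (by simpa using hj')))
    · exact hbnot ⟨w, hw, by simpa using hww⟩
    · exact hanot ⟨w, hw, by simpa using hww⟩
    · simp only [pow_one] at hww
      refine hmove (a⁻¹ * w) (mul_mem (inv_mem ha) hw) ?_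
      calc x * a * x⁻¹ = a⁻¹ * (a * b) := by rw [inv_mul_cancel_left]
        _ = a⁻¹ * (w * w) := by rw [hww]
        _ = a * (a⁻¹ * w * (a⁻¹ * w)) := by
          rw [show a * (a⁻¹ * w * (a⁻¹ * w)) = w * a⁻¹ * w by group, hQc w hw _ (inv_mem ha),
            mul_assoc]
  have hcardQ : Nat.card Q = N * N := by
    rw [Nat.card_congr e.toEquiv, Nat.card_prod]
    simp [Nat.card_congr Multiplicative.toAdd]
  have hrange : ψ.range = Q := by
    refine Subgroup.eq_of_le_of_card_ge hle ?_
    rw [hcardQ, ← Nat.card_congr (MonoidHom.ofInjective hψinj).toEquiv,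
      Nat.card_congr Multiplicative.toAdd, Nat.card_prod, Nat.card_zmod]
  refine not_metacyclic_of_swap hN hn hm ψ hψinj (x := x) (hrange.symm ▸ hx) (hrange.symm ▸ hx2)
    fun v => ?_
  show x * (a ^ v.toAdd.1.val * b ^ v.toAdd.2.val) * x⁻¹ = a ^ v.toAdd.2.val * b ^ v.toAdd.1.val
  rw [← conj_mul, ← conj_pow, ← conj_pow, ← hb, hxb]
  exact ((hQc _ (Q.pow_mem hbQ _) _ (Q.pow_mem ha _)))

end Swap

section Four

theorem commute_of_sq {G : Type*} [Group G] {H : Subgroup G} (h : ∀ q ∈ H, q * q = 1) {u v : G}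
    (hu : u ∈ H) (hv : v ∈ H) : u * v = v * u := by
  rw [← inv_eq_of_mul_eq_one_right (h _ (H.mul_mem hu hv)), mul_inv_rev,
    inv_eq_of_mul_eq_one_right (h u hu), inv_eq_of_mul_eq_one_right (h v hv)]

variable {P : Type*} [Group P] [Finite P]

/-- In a 2-group a noncentral involution of a self-centralising four-group has centraliser of
order four. -/
theorem card_centralizer_of_four (hP : IsPGroup 2 P) (Q : Subgroup P) (hc : Nat.card Q = 4)
    (hsq : ∀ q ∈ Q, q * q = 1) (hC : centralizer (Q : Set P) ≤ Q) {x : P} (hx : x ∈ Q)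
    (hxc : x ∉ center P) : Nat.card (centralizer ({x} : Set P)) = 4 := by
  have : Fact (Nat.Prime 2) := ⟨Nat.prime_two⟩
  haveI : Nontrivial P := ⟨x, 1, fun h => hxc (h ▸ one_mem _)⟩
  haveI := hP.center_nontrivial
  obtain ⟨⟨c, hcz⟩, hc1⟩ := exists_ne (1 : center P)
  have hcQ : c ∈ Q := hC (mem_centralizer_iff.2 fun q _ => mem_center_iff.1 hcz q)
  have hc1' : c ≠ 1 := fun h => hc1 (Subtype.ext h)
  have hcx : c ≠ x := fun h => hxc (h ▸ hcz)
  have hx1 : x ≠ 1 := fun h => hxc (h ▸ one_mem _)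
  have key : ∀ q ∈ Q, q = 1 ∨ q = x ∨ q = c ∨ q = x * c := by
    classical
    haveI := Fintype.ofFinite P
    have hsub : ({1, x, c, x * c} : Finset P) ⊆ (Q : Set P).toFinset := by
      intro u hu
      simp only [Finset.mem_insert, Finset.mem_singleton] at hu
      rw [Set.mem_toFinset]
      rcases hu with rfl | rfl | rfl | rfl
      exacts [Q.one_mem, hx, hcQ, Q.mul_mem hx hcQ]
    have hxc1 : x * c ≠ 1 := fun h => hcx (mul_left_cancel (h.trans (hsq x hx).symm))
    have hcard : ({1, x, c, x * c} : Finset P).card = 4 := by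
      simp [hx1.symm, hc1'.symm, hxc1.symm, hcx.symm, hc1', hx1]
    have heq := Finset.eq_of_subset_of_card_le hsub (by
      rw [hcard, Set.toFinset_card, ← Nat.card_eq_fintype_card]; exact hc.le)
    intro q hq
    have : q ∈ ({1, x, c, x * c} : Finset P) := heq ▸ Set.mem_toFinset.2 hq
    simpa [Finset.mem_insert, Finset.mem_singleton] using this
  have heq : centralizer ({x} : Set P) = Q := by
    refine le_antisymm (fun g hg => hC ?_) fun q hq => ?_
    · rw [mem_centralizer_singleton_iff] at hg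
      have hg' : x * g = g * x := hg.symm
      rw [mem_centralizer_iff]
      intro q hq
      rcases key q hq with rfl | rfl | rfl | rfl
      · simp
      · exact hg'
      · exact (mem_center_iff.1 hcz g).symm
      · rw [mul_assoc, ← mem_center_iff.1 hcz g, ← mul_assoc, hg', mul_assoc]
    · rw [mem_centralizer_singleton_iff]
      have hxq := hsq _ (Q.mul_mem hx hq)
      exact commute_of_sq hsq hq hx
  rw [heq, hc]

/-- A 2-group with a proper self-centralising four-group is dihedral or semidihedral. -/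
theorem dihedral_of_four (hP : IsPGroup 2 P) (Q : Subgroup P) (hc : Nat.card Q = 4)
    (hsq : ∀ q ∈ Q, q * q = 1) (hC : centralizer (Q : Set P) ≤ Q) {x : P} (hx : x ∈ Q)
    (hxc : x ∉ center P) :
    (∃ n : ℕ, Nonempty (P ≃* DihedralGroup n)) ∨ Cfsg.IsQuasiDihedral P := by
  have : Fact (Nat.Prime 2) := ⟨Nat.prime_two⟩
  have hxx := hsq x hx
  have hx1 : x ≠ 1 := fun h => hxc (h ▸ one_mem _)
  rcases MaxClass.hasReflection_or_card_eq_four _ P rfl hP x
      (orderOf_eq_prime (by rw [pow_two, hxx]) hx1)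
      (card_centralizer_of_four hP Q hc hsq hC hx hxc) with h | h
  · exact MaxClass.eq_dihedral_or_quasi hxx h
  · exfalso
    apply hxc
    have : IsMulCommutative P := IsPGroup.isMulCommutative_of_card_eq_prime_sq (p := 2) h
    exact mem_center_iff.2 fun g => this.1.1 g x

/-- A 2-group with a proper self-centralising quaternion group of order eight is semidihedral or
generalised quaternion. -/
theorem quaternion_of_eight (hP : IsPGroup 2 P) (Q : Subgroup P)
    (e : Q ≃* QuaternionGroup 2) (hC : centralizer (Q : Set P) ≤ Q) {x g : P} (hx : x ∈ Q)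
    (hmove : ∀ w ∈ Q, g * x * g⁻¹ ≠ x * (w * w)) :
    (∃ n : ℕ, Nonempty (P ≃* QuaternionGroup n)) ∨ Cfsg.IsQuasiDihedral P := by
  classical
  have : Fact (Nat.Prime 2) := ⟨Nat.prime_two⟩
  -- facts about `Q8`
  have f1 : ∀ u : QuaternionGroup 2, u * u = 1 ∨ u * u = QuaternionGroup.a 2 := by decide
  have f2 : ∀ u : QuaternionGroup 2, u * QuaternionGroup.a 2 = QuaternionGroup.a 2 * u := by
    decide
  have f3 : ∀ u : QuaternionGroup 2, u * u = 1 → u = 1 ∨ u = QuaternionGroup.a 2 := by decide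
  have f4 : ∀ d : QuaternionGroup 2, (d = 1 ∨ d = QuaternionGroup.a 2) →
      ∀ d' : QuaternionGroup 2, (d' = 1 ∨ d' = QuaternionGroup.a 2) →
      ∃ q : QuaternionGroup 2, q * QuaternionGroup.a 1 * q⁻¹ = QuaternionGroup.a 1 * d ∧
        q * QuaternionGroup.xa 0 * q⁻¹ = QuaternionGroup.xa 0 * d' := by decide
  have f5 : ∀ u : QuaternionGroup 2, ∃ i : Fin 4, u = QuaternionGroup.a 1 ^ (i : ℕ) ∨
      u = QuaternionGroup.xa 0 * QuaternionGroup.a 1 ^ (i : ℕ) := by decide
  have f6 : (QuaternionGroup.a 2 : QuaternionGroup 2) ≠ 1 := by decide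
  set z : P := ((e.symm (QuaternionGroup.a 2) : Q) : P) with hz
  have hzQ : z ∈ Q := SetLike.coe_mem _
  have hofeq : ∀ {u v : Q}, e u = e v → (u : P) = v := fun h => congrArg Subtype.val (e.injective h)
  have hsq : ∀ q ∈ Q, q * q = 1 ∨ q * q = z := fun q hq => by
    rcases f1 (e ⟨q, hq⟩) with h | h
    · left; exact hofeq (u := ⟨q, hq⟩ * ⟨q, hq⟩) (v := 1) (by rw [map_mul, h, map_one])
    · right
      exact hofeq (u := ⟨q, hq⟩ * ⟨q, hq⟩) (v := e.symm (QuaternionGroup.a 2))
        (by rw [map_mul, h, e.apply_symm_apply])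
  have hzz : z * z = 1 := hofeq (u := e.symm (QuaternionGroup.a 2) * e.symm (QuaternionGroup.a 2))
    (v := 1) (by rw [map_mul, e.apply_symm_apply, map_one]; decide)
  have hz1 : z ≠ 1 := fun h => f6 (e.symm.injective (Subtype.ext (h.trans (by simp))))
  have hzsq : z = e.symm (QuaternionGroup.a 1) * e.symm (QuaternionGroup.a 1) := by
    rw [← Subgroup.coe_mul, ← map_mul]; rfl
  -- the centre
  have hzc : z ∈ center P := by
    haveI : Nontrivial P := ⟨z, 1, hz1⟩
    haveI := hP.center_nontrivial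
    obtain ⟨k, hk0, hk⟩ := (hP.to_subgroup (center P)).nontrivial_iff_card.1 inferInstance
    obtain ⟨⟨c, hc⟩, hco⟩ := exists_prime_orderOf_dvd_card' (G := center P) 2
      (hk ▸ dvd_pow_self 2 hk0.ne')
    have hco' : orderOf c = 2 := by rw [← hco]; exact Subgroup.orderOf_coe (⟨c, hc⟩ : center P)
    have hcQ : c ∈ Q := hC (mem_centralizer_iff.2 fun q _ => mem_center_iff.1 hc q)
    have hcc : c * c = 1 := by
      have := pow_orderOf_eq_one c; rwa [hco', pow_two] at this
    rcases f3 (e ⟨c, hcQ⟩) (by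
        rw [← map_mul, ← map_one e]; exact congrArg e (Subtype.ext hcc)) with h | h
    · exfalso
      have h1 : c = 1 := hofeq (u := ⟨c, hcQ⟩) (v := 1) (by rw [h, map_one])
      simp [h1] at hco'
    · have hcz : c = z := hofeq (u := ⟨c, hcQ⟩) (v := e.symm (QuaternionGroup.a 2))
        (by rw [h, e.apply_symm_apply])
      exact hcz ▸ hc
  set Z : Subgroup P := zpowers z with hZ
  haveI hZn : Z.Normal := ⟨fun u hu v => by
    obtain ⟨k, rfl⟩ := mem_zpowers_iff.1 hu
    rw [mem_center_iff.1 (zpow_mem hzc k) v, mul_inv_cancel_right]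
    exact zpow_mem (mem_zpowers z) k⟩
  have hzo : orderOf z = 2 := orderOf_eq_prime (by rw [pow_two, hzz]) hz1
  have hZmem : ∀ u, u ∈ Z ↔ u = 1 ∨ u = z := by
    intro u
    rw [hZ, ← mem_powers_iff_mem_zpowers, Submonoid.mem_powers_iff]
    refine ⟨?_, ?_⟩
    · rintro ⟨k, rfl⟩
      rw [← pow_mod_orderOf, hzo]
      rcases Nat.mod_two_eq_zero_or_one k with h | h <;> simp [h]
    · rintro (rfl | rfl)
      exacts [⟨0, pow_zero _⟩, ⟨1, pow_one _⟩]
  set π := QuotientGroup.mk' Z with hπ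
  have hker : ∀ u, π u = 1 ↔ (u = 1 ∨ u = z) := fun u => by
    rw [hπ, QuotientGroup.mk'_apply, QuotientGroup.eq_one_iff, hZmem]
  have hZQ : Z ≤ Q := zpowers_le.2 hzQ
  have hQbar : Nat.card (Q.map π) = 4 := by
    have h1 : Nat.card Q = 8 := by
      rw [Nat.card_congr e.toEquiv, Nat.card_eq_fintype_card, QuaternionGroup.card]
    have h2 : Nat.card Z = 2 := by rw [hZ, Nat.card_zpowers, hzo]
    have h3 := Subgroup.relIndex_mul_relIndex ⊥ Z Q bot_le hZQ
    rw [Subgroup.relIndex_bot_left, Subgroup.relIndex_bot_left, h1, h2] at h3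
    have h4 := Subgroup.relIndex_ker (K := Q) π
    rw [hπ, QuotientGroup.ker_mk'] at h4
    rw [hπ, ← h4]
    omega
  have hQsq : ∀ u ∈ Q.map π, u * u = 1 := by
    rintro _ ⟨q, hq, rfl⟩
    rw [← map_mul, hker]
    exact hsq q hq
  have hCbar : centralizer ((Q.map π : Subgroup (P ⧸ Z)) : Set (P ⧸ Z)) ≤ Q.map π := by
    intro u hu
    obtain ⟨h, rfl⟩ := QuotientGroup.mk'_surjective Z u
    have hd : ∀ v : QuaternionGroup 2, ∃ d : QuaternionGroup 2,
        (d = 1 ∨ d = QuaternionGroup.a 2) ∧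
        h * ((e.symm v : Q) : P) * h⁻¹ = ((e.symm (v * d) : Q) : P) := by
      intro v
      have hcm := mem_centralizer_iff.1 hu (π ((e.symm v : Q) : P)) ⟨_, SetLike.coe_mem _, rfl⟩
      have : π (((e.symm v : Q) : P)⁻¹ * (h * ((e.symm v : Q) : P) * h⁻¹) : P) = 1 := by
        simp only [map_mul, map_inv]
        rw [← hπ] at hcm
        rw [← hcm]
        group
      rcases (hker _).1 this with h1 | h1
      · refine ⟨1, Or.inl rfl, ?_⟩
        rw [mul_one]
        exact (inv_mul_eq_one.1 h1).symm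
      · refine ⟨QuaternionGroup.a 2, Or.inr rfl, ?_⟩
        rw [inv_mul_eq_iff_eq_mul] at h1
        rw [h1, map_mul, Subgroup.coe_mul, hz]
    obtain ⟨d, hd1, hd2⟩ := hd (QuaternionGroup.a 1)
    obtain ⟨d', hd1', hd2'⟩ := hd (QuaternionGroup.xa 0)
    obtain ⟨q, hq1, hq2⟩ := f4 d hd1 d' hd1'
    set q' : P := ((e.symm q : Q) : P) with hq'
    have hgen : ∀ v, h * ((e.symm v : Q) : P) * h⁻¹ = q' * ((e.symm v : Q) : P) * q'⁻¹ →
        ((e.symm v : Q) : P) * (q'⁻¹ * h) = q'⁻¹ * h * ((e.symm v : Q) : P) := by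
      intro v hv
      calc ((e.symm v : Q) : P) * (q'⁻¹ * h) = q'⁻¹ * (q' * ((e.symm v : Q) : P) * q'⁻¹) * h := by group
        _ = q'⁻¹ * (h * ((e.symm v : Q) : P) * h⁻¹) * h := by rw [hv]
        _ = q'⁻¹ * h * ((e.symm v : Q) : P) := by group
    have ha : Commute ((e.symm (QuaternionGroup.a 1) : Q) : P) (q'⁻¹ * h) := hgen _ (by
      rw [hd2, ← hq1, hq']; simp)
    have hb : Commute ((e.symm (QuaternionGroup.xa 0) : Q) : P) (q'⁻¹ * h) := hgen _ (by
      rw [hd2', ← hq2, hq']; simp)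
    have hcent : q'⁻¹ * h ∈ centralizer (Q : Set P) := by
      rw [mem_centralizer_iff]
      intro w hw
      obtain ⟨i, hi⟩ := f5 (e ⟨w, hw⟩)
      have hw' : w = ((e.symm (e ⟨w, hw⟩) : Q) : P) := by rw [e.symm_apply_apply]
      rcases hi with hi | hi <;> rw [hw', hi] <;>
        simp only [map_mul, map_pow, Subgroup.coe_mul, SubmonoidClass.coe_pow]
      · exact (ha.pow_left i).eq
      · exact (hb.mul_left (ha.pow_left i)).eq
    refine ⟨h, ?_, rfl⟩
    simpa [hq'] using Q.mul_mem (SetLike.coe_mem (e.symm q)) (hC hcent)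
  -- the image of `x`
  have hxz : x ≠ 1 ∧ x ≠ z := by
    constructor <;> intro hh
    · exact hmove 1 Q.one_mem (by simp [hh])
    · refine hmove 1 Q.one_mem ?_
      rw [hh, mem_center_iff.1 hzc g, mul_inv_cancel_right, mul_one, mul_one]
  have hxx : x * x = z := by
    rcases hsq x hx with h | h
    · exfalso
      rcases f3 (e ⟨x, hx⟩) (by
          rw [← map_mul, ← map_one e]; exact congrArg e (Subtype.ext h)) with h' | h'
      · exact hxz.1 (hofeq (u := ⟨x, hx⟩) (v := 1) (by rw [h', map_one]))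
      · exact hxz.2 (hofeq (u := ⟨x, hx⟩) (v := e.symm (QuaternionGroup.a 2))
          (by rw [h', e.apply_symm_apply]))
    · exact h
  have hxbar : π x ∉ center (P ⧸ Z) := by
    intro hh
    have h1 : π (x⁻¹ * (g * x * g⁻¹)) = 1 := by
      simp only [map_mul, map_inv]
      rw [mem_center_iff.1 hh (π g)]
      group
    rcases (hker _).1 h1 with h | h
    · exact hmove 1 Q.one_mem (by rw [mul_one, mul_one]; exact (inv_mul_eq_one.1 h).symm)
    · refine hmove _ (SetLike.coe_mem (e.symm (QuaternionGroup.a 1))) ?_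
      rw [← hzsq, inv_mul_eq_iff_eq_mul.1 h]
  have hPbar : IsPGroup 2 (P ⧸ Z) := hP.to_quotient Z
  have hxbar2 : π x * π x = 1 := by rw [← map_mul, hxx, hker]; exact Or.inr rfl
  have hxbar1 : π x ≠ 1 := fun h => by rcases (hker x).1 h with h | h <;> simp_all
  have hC4 := card_centralizer_of_four hPbar (Q.map π) hQbar hQsq hCbar ⟨x, hx, rfl⟩ hxbar
  rcases MaxClass.hasReflection_or_card_eq_four _ (P ⧸ Z) rfl hPbar (π x)
      (orderOf_eq_prime (by rw [pow_two, hxbar2]) hxbar1) hC4 with hr | hr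
  swap
  · exfalso
    apply hxbar
    have : IsMulCommutative (P ⧸ Z) := IsPGroup.isMulCommutative_of_card_eq_prime_sq (p := 2) hr
    exact mem_center_iff.2 fun v => this.1.1 v (π x)
  -- the centraliser of `x`
  have hCx : ∀ u : P, u * x = x * u → u ∈ Q := by
    intro u hu
    have hle : centralizer ({π x} : Set (P ⧸ Z)) = Q.map π := by
      refine (Subgroup.eq_of_le_of_card_ge ?_ (by rw [hC4, hQbar])).symm
      intro v hv
      rw [mem_centralizer_singleton_iff]
      exact commute_of_sq hQsq hv ⟨x, hx, rfl⟩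
    have : π u ∈ Q.map π := hle ▸ mem_centralizer_singleton_iff.2 (by rw [← map_mul, hu, map_mul])
    obtain ⟨q, hq, hqu⟩ := this
    have h1 : π (q⁻¹ * u) = 1 := by rw [map_mul, map_inv, hqu, inv_mul_cancel]
    rcases (hker _).1 h1 with h | h
    · exact (inv_mul_eq_one.1 h) ▸ hq
    · rw [inv_mul_eq_iff_eq_mul.1 h]; exact Q.mul_mem hq hzQ
  have hxo : orderOf x = 4 := by
    have : orderOf x = 2 ^ (1 + 1) := orderOf_eq_prime_pow
      (by rw [pow_one, pow_two, hxx]; exact hz1)
      (by rw [show 2 ^ (1 + 1) = 2 * 2 from rfl, pow_mul, pow_two x, hxx, pow_two, hzz])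
    simpa using this
  obtain ⟨n, abar, habar, hcard, hxa, hrel⟩ := hr
  obtain ⟨a, rfl⟩ := QuotientGroup.mk'_surjective Z abar
  rw [← hπ] at habar hxa hrel
  have hn2 : 2 ≤ n := by
    by_contra hlt
    apply hxbar
    have hle : Nat.card (P ⧸ Z) ∣ 2 ^ 2 := hcard ▸ pow_dvd_pow 2 (by omega)
    obtain ⟨k, hk, hk'⟩ := (Nat.dvd_prime_pow Nat.prime_two).1 hle
    have : IsMulCommutative (P ⧸ Z) := by
      interval_cases k
      · exact ⟨⟨fun u v => by
          have := (Nat.card_eq_one_iff_unique.1 (by simpa using hk')).1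
          exact Subsingleton.elim _ _⟩⟩
      · haveI : IsCyclic (P ⧸ Z) := isCyclic_of_prime_card (p := 2) (by simpa using hk')
        exact IsCyclic.isMulCommutative
      · exact IsPGroup.isMulCommutative_of_card_eq_prime_sq (p := 2) hk'
    exact mem_center_iff.2 fun v => this.1.1 v (π x)
  have hPcard : Nat.card P = 2 ^ (n + 1 + 1) := by
    rw [Subgroup.card_eq_card_quotient_mul_card_subgroup Z, hcard, hZ, Nat.card_zpowers, hzo,
      ← pow_succ]
  -- exponents
  obtain ⟨r, hr', hrodd, hrcase⟩ : ∃ r : ℤ, π (x * a * x⁻¹) = π (a ^ r) ∧ Odd r ∧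
      (r = -1 ∨ (3 ≤ n ∧ r = 2 ^ (n - 1) - 1)) := by
    rcases hrel with h | ⟨h3, h⟩
    · exact ⟨-1, by rw [map_mul, map_mul, map_inv, h, zpow_neg_one, map_inv], by decide, Or.inl rfl⟩
    · refine ⟨2 ^ (n - 1) - 1, by rw [map_mul, map_mul, map_inv, h, map_zpow], ?_, Or.inr ⟨h3, rfl⟩⟩
      rw [Int.odd_iff]
      have : (2 : ℤ) ∣ 2 ^ (n - 1) := dvd_pow_self 2 (by omega)
      omega
  have hN : a ^ 2 ^ n = 1 ∨ a ^ 2 ^ n = z := by
    rw [← hker, map_pow, ← habar, pow_orderOf_eq_one]
  rcases hN with hN | hN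
  · exfalso
    set w := a ^ 2 ^ (n - 1) with hw
    have hww : w * w = 1 := by
      rw [hw, ← pow_add, ← two_mul, ← pow_succ', show n - 1 + 1 = n by omega, hN]
    have hxw : x * w * x⁻¹ = w := by
      obtain ⟨y, hy, hy'⟩ : ∃ y, (y = 1 ∨ y = z) ∧ x * a * x⁻¹ = a ^ r * y :=
        ⟨(a ^ r)⁻¹ * (x * a * x⁻¹), (hker _).1 (by rw [map_mul, map_inv, hr', inv_mul_cancel]),
          (mul_inv_cancel_left _ _).symm⟩
      have hyc : Commute (a ^ r) y := by
        rcases hy with rfl | rfl
        exacts [Commute.one_right _, mem_center_iff.1 hzc _]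
      have hyp : y ^ 2 ^ (n - 1) = 1 := by
        rw [show 2 ^ (n - 1) = 2 * 2 ^ (n - 2) by rw [← pow_succ']; congr 1; omega, pow_mul,
          pow_two]
        rcases hy with rfl | rfl <;> simp [hzz]
      rw [hw, ← conj_pow, hy', hyc.mul_pow, hyp, mul_one, ← hw, ← zpow_natCast, ← zpow_mul,
        mul_comm, zpow_mul, zpow_natCast, ← hw]
      obtain ⟨k, rfl⟩ := hrodd
      rw [zpow_add, zpow_one, zpow_mul, zpow_ofNat, pow_two, hww, one_zpow, one_mul]
    have hwQ := hCx w (by rw [mul_inv_eq_iff_eq_mul] at hxw; exact hxw.symm)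
    have hwcases : w = 1 ∨ w = z := by
      rcases f3 (e ⟨w, hwQ⟩) (by
          rw [← map_mul, ← map_one e]; exact congrArg e (Subtype.ext hww)) with h' | h'
      · exact Or.inl (hofeq (u := ⟨w, hwQ⟩) (v := 1) (by rw [h', map_one]))
      · exact Or.inr (hofeq (u := ⟨w, hwQ⟩) (v := e.symm (QuaternionGroup.a 2))
          (by rw [h', e.apply_symm_apply]))
    have h1 := (hker w).2 hwcases
    rw [hw, map_pow] at h1
    have := orderOf_dvd_of_pow_eq_one h1
    rw [habar] at this
    have := (Nat.pow_dvd_pow_iff_le_right (by norm_num)).1 this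
    omega
  · have hao : orderOf a = 2 ^ (n + 1) := orderOf_eq_prime_pow (by rw [hN]; exact hz1)
      (by rw [pow_succ, pow_mul, hN, pow_two, hzz])
    have hxA : x ∉ zpowers a := fun h => hxa (by
      obtain ⟨k, hk⟩ := mem_zpowers_iff.1 h
      exact mem_zpowers_iff.2 ⟨k, by rw [← map_zpow, hk]⟩)
    obtain ⟨r', hr'', hrr⟩ : ∃ r' : ℤ, x * a * x⁻¹ = a ^ r' ∧ (r' = r ∨ r' = r + 2 ^ n) := by
      rcases (hker ((a ^ r)⁻¹ * (x * a * x⁻¹))).1
          (by rw [map_mul, map_inv, hr', inv_mul_cancel]) with h | h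
      · exact ⟨r, (inv_mul_eq_one.1 h).symm, Or.inl rfl⟩
      · refine ⟨r + 2 ^ n, ?_, Or.inr rfl⟩
        rw [inv_mul_eq_iff_eq_mul.1 h, zpow_add, ← hN, ← zpow_natCast]
        norm_num
    have hinv : ((2 : ℤ) ^ (n + 1)) ∣ r' * r' - 1 := by
      have h2 : x * (x * a * x⁻¹) * x⁻¹ = a := by
        rw [show x * (x * a * x⁻¹) * x⁻¹ = (x * x) * a * (x * x)⁻¹ by group, hxx,
          ← mem_center_iff.1 hzc a, mul_inv_cancel_right]
      rw [hr'', ← conj_zpow, hr'', ← zpow_mul] at h2
      have h3 : a ^ (r' * r' - 1) = 1 := by rw [zpow_sub, h2, zpow_one, mul_inv_cancel]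
      rw [← orderOf_dvd_iff_zpow_eq_one, hao] at h3
      exact_mod_cast h3
    rcases hrcase with rfl | ⟨h3, rfl⟩
    · rcases hrr with rfl | rfl
      · left
        refine ⟨2 ^ n, ?_⟩
        obtain ⟨E⟩ := TwoGroup.nonempty_mulEquiv_quaternion (m := 2 ^ n)
          (by rw [hao, pow_succ']) (by rw [hxx, hN])
          (by rw [hr'', zpow_neg_one]) hxA ⊤ (mem_top a) (mem_top x) fun u _ => by
            have hidx : (zpowers a).index = 2 := by
              have h1 := (zpowers a).card_mul_index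
              rw [Nat.card_zpowers, hao, hPcard, pow_succ _ (n + 1)] at h1
              exact Nat.eq_of_mul_eq_mul_left (by positivity) h1
            by_cases hu : u ∈ zpowers a
            · exact Or.inl hu
            · exact Or.inr ((mul_mem_iff_of_index_two hidx).mpr
                ⟨fun h => absurd h hxA, fun h => absurd h hu⟩)
        exact ⟨topEquiv.symm.trans E⟩
      · right
        have hy2 : x * a * (x * a) = 1 := by
          rw [show x * a * (x * a) = (x * a * x⁻¹) * (x * x) * a by group, hr'', hxx,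
            mul_assoc, ← mem_center_iff.1 hzc a, ← mul_assoc, ← zpow_add_one,
            show (-1 + 2 ^ n + 1 : ℤ) = ((2 ^ n : ℕ) : ℤ) by push_cast; ring,
            zpow_natCast, hN, hzz]
        refine ⟨n + 1, by omega, hPcard, a, x * a, hao, orderOf_eq_prime (by rw [pow_two, hy2])
          (fun h => hxA (by rw [eq_inv_of_mul_eq_one_left h]; exact inv_mem (mem_zpowers a))), ?_⟩
        rw [show x * a * a * (x * a)⁻¹ = x * a * x⁻¹ by group, hr'', ← zpow_natCast,
          Nat.add_sub_cancel]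
        congr 1
        rw [Nat.cast_sub (Nat.one_le_pow _ _ two_pos)]
        push_cast
        ring
    · exfalso
      have hd : ((2 : ℤ) ^ (n + 1)) ∣ (2 ^ (n - 1) - 1) * (2 ^ (n - 1) - 1) - 1 := by
        rcases hrr with rfl | rfl
        · exact hinv
        · refine (Int.dvd_iff_dvd_of_dvd_sub ?_).1 hinv
          refine ⟨2 ^ (n - 1) - 1 + 2 ^ (n - 1), ?_⟩
          have : (2 : ℤ) ^ n = 2 * 2 ^ (n - 1) := by rw [← pow_succ']; congr 1; omega
          rw [pow_succ, this]; ring
      have e1 : (2 : ℤ) ^ (n + 1) = 4 * 2 ^ (n - 1) := by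
        rw [show (4 : ℤ) = 2 ^ 2 by norm_num, ← pow_add]; congr 1; omega
      have e2 : (2 : ℤ) ^ (n - 1) = 4 * 2 ^ (n - 3) := by
        rw [show (4 : ℤ) = 2 ^ 2 by norm_num, ← pow_add]; congr 1; omega
      obtain ⟨k, hk⟩ := hd
      rw [e1] at hk
      have hpos : (2 : ℤ) ^ (n - 1) ≠ 0 := by positivity
      have hk' : (2 : ℤ) ^ (n - 1) - 2 = 4 * k := mul_left_cancel₀ hpos (by linear_combination hk)
      omega

end Four

end Cfsg.Agent.Lib.Fusion90
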