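import Cfsg.Agent.Lib.Fusion90.MetacyclicTwoGroups
import Cfsg.Agent.Lib.Fusion87.Normal
import Cfsg.Agent.S1896

/-!
A strongly closed metacyclic 2-subgroup that is not dihedral, semidihedral or generalised
quaternion lies in every centric radical subgroup (helper90).
-/

set_option autoImplicit false

namespace Cfsg.Agent.Lib.Fusion90

open Cfsg Cfsg.FusionSystem Cfsg.Agent.Lib.Fusion Cfsg.Agent.Lib.Fusion87

/-- An element of `W` normalizing `R` lies in `R` implies `W ≤ R`, for `W` normalized by `R`. -/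
theorem le_of_normalized {Ω : Type*} [Group Ω] {S : Subgroup Ω} [Finite S] {p : ℕ} [Fact p.Prime]
    (hS : IsPGroup p S) {R W : Subgroup Ω} (hR : R ≤ S) (hW : W ≤ S)
    (hWn : R ≤ Subgroup.normalizer (W : Set Ω))
    (h : ∀ g ∈ W, g ∈ Subgroup.normalizer (R : Set Ω) → g ∈ R) : W ≤ R := by
  have hsup : R ⊔ W ≤ S := sup_le hR hW
  have : Finite (R ⊔ W : Subgroup Ω) := finite_of_le hsup
  have : Finite R := finite_of_le hR
  by_contra hne
  have hne' : R ≠ R ⊔ W := fun e => hne (le_sup_right.trans e.ge)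
  have hlt := card_lt_normalizerIn (hS.to_le hsup) le_sup_left hne'
  refine hlt.not_ge (Subgroup.card_le_of_le ?_)
  intro x hx
  obtain ⟨hx1, hx2⟩ := hx
  have hx1' : x ∈ ((R ⊔ W : Subgroup Ω) : Set Ω) := hx1
  rw [Subgroup.coe_mul_of_left_le_normalizer_right R W hWn] at hx1'
  obtain ⟨r, hr, w, hw, rfl⟩ := hx1'
  refine R.mul_mem hr (h w hw ?_)
  have := mul_mem (inv_mem (Subgroup.le_normalizer hr)) hx2
  rwa [inv_mul_cancel_left] at this

section Squares

variable {Q : Type*} [Group Q]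

/-- The automorphisms trivial modulo squares. -/
def modSquares (hD : ∀ u v : Q, ∃ w, u * u * (v * v) = w * w) : Subgroup (MulAut Q) where
  carrier := {β | ∀ q, ∃ w, β q = q * (w * w)}
  one_mem' := fun q => ⟨1, by simp⟩
  mul_mem' := by
    intro β γ hβ hγ q
    obtain ⟨w, hw⟩ := hγ q
    obtain ⟨u, hu⟩ := hβ q
    obtain ⟨v, hv⟩ := hD u (β w)
    exact ⟨v, by rw [MulAut.mul_apply, hw, map_mul, map_mul, hu, mul_assoc, hv]⟩
  inv_mem' := by
    intro β hβ q
    obtain ⟨w, hw⟩ := hβ (β⁻¹ q)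
    rw [MulAut.apply_inv_self] at hw
    refine ⟨w⁻¹, ?_⟩
    conv_rhs => rw [hw]
    group

theorem modSquares_normal (hD : ∀ u v : Q, ∃ w, u * u * (v * v) = w * w) :
    (modSquares hD).Normal := by
  constructor
  intro β hβ γ q
  obtain ⟨w, hw⟩ := hβ (γ⁻¹ q)
  exact ⟨γ w, by rw [MulAut.mul_apply, MulAut.mul_apply, hw, map_mul, map_mul, MulAut.apply_inv_self]⟩

theorem isPGroup_modSquares_quaternion [Finite Q] (hQ : IsPGroup 2 Q)
    (hD : ∀ u v : Q, ∃ w, u * u * (v * v) = w * w)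
    (h : ∀ w u : Q, w * (u * u) * (w * (u * u)) = w * w) : IsPGroup 2 (modSquares hD) := by
  have : Fact (Nat.Prime 2) := ⟨Nat.prime_two⟩
  refine isPGroup_of_coprime_trivial fun β hβ => ?_
  rw [← Subgroup.orderOf_coe] at hβ
  refine Subtype.ext (MulEquiv.ext fun q => ?_)
  obtain ⟨w, hw⟩ := β.2 q
  refine fix_of_step _ hβ q ?_ (hQ _)
  rw [hw, inv_mul_cancel_left, map_mul]
  obtain ⟨u, hu⟩ := β.2 w
  rw [hu, h]

theorem isPGroup_modSquares_abelian [Finite Q] (hQ : IsPGroup 2 Q)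
    (hD : ∀ u v : Q, ∃ w, u * u * (v * v) = w * w) (hab : ∀ u v : Q, u * v = v * u) {n : ℕ}
    (hexp : ∀ u : Q, u ^ 2 ^ n = 1) : IsPGroup 2 (modSquares hD) := by
  have : Fact (Nat.Prime 2) := ⟨Nat.prime_two⟩
  refine isPGroup_of_coprime_trivial fun β hβ => ?_
  rw [← Subgroup.orderOf_coe] at hβ
  suffices key : ∀ d i : ℕ, n ≤ i + d → ∀ q : Q, (β : MulAut Q) (q ^ 2 ^ i) = q ^ 2 ^ i from
    Subtype.ext (MulEquiv.ext fun q => by simpa using key n 0 (by omega) q)
  intro d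
  induction d with
  | zero =>
    intro i hi q
    rw [show i = n + (i - n) by omega, pow_add, pow_mul, hexp, one_pow, map_one]
  | succ d ih =>
    intro i hi q
    obtain ⟨w, hw⟩ := β.2 q
    refine fix_of_step _ hβ _ ?_ (hQ _)
    have e : (q ^ 2 ^ i)⁻¹ * (β : MulAut Q) (q ^ 2 ^ i) = w ^ 2 ^ (i + 1) := by
      rw [map_pow, hw, (show Commute q (w * w) from hab _ _).mul_pow, inv_mul_cancel_left, ← pow_two,
        ← pow_mul, ← pow_succ']
    rw [e]
    exact ih (i + 1) (by omega) w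

end Squares

variable {Ω : Type*} [Group Ω] {S : Subgroup Ω} {F : FusionSystem S}

/-- Automorphisms of `R` restrict to the strongly closed part. -/
theorem apply_mem_inter {P R : Subgroup Ω} (hP : F.StronglyClosed P) (hR : R ≤ S)
    {a : MulAut R} (ha : a ∈ F.autGroup R) {x : R} (hx : (x : Ω) ∈ P) :
    (a x : Ω) ∈ P ⊓ R :=
  ⟨stronglyClosed_apply hP (autGroup_hom_mem hR ha) x hx, (a x).2⟩

/-- Restriction to the strongly closed part. -/
def resHom {P R : Subgroup Ω} (hP : F.StronglyClosed P) (hR : R ≤ S) :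
    F.autGroup R →* MulAut (P ⊓ R : Subgroup Ω) :=
  MonoidHom.mk'
    (fun a =>
      { toFun := fun q => ⟨((a : MulAut R) ⟨q, q.2.2⟩ : R), apply_mem_inter hP hR a.2 q.2.1⟩
        invFun := fun q =>
          ⟨((a⁻¹ : F.autGroup R) : MulAut R) ⟨q, q.2.2⟩, apply_mem_inter hP hR a⁻¹.2 q.2.1⟩
        left_inv := fun q => Subtype.ext (by simp)
        right_inv := fun q => Subtype.ext (by simp)
        map_mul' := fun q q' => Subtype.ext
          (congrArg (fun z : R => (z : Ω)) (map_mul (a : MulAut R) ⟨q, q.2.2⟩ ⟨q', q'.2.2⟩)) })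
    fun a b => MulEquiv.ext fun q => rfl

theorem resHom_apply {P R : Subgroup Ω} (hP : F.StronglyClosed P) (hR : R ≤ S)
    (a : F.autGroup R) (q : (P ⊓ R : Subgroup Ω)) :
    (resHom hP hR a q : Ω) = ((a : MulAut R) ⟨q, q.2.2⟩ : R) := rfl

/-- The key step: an element of `P ∩ N(R)` acting on `P ∩ R` inside a normal `2`-group of
automorphisms lies in `R`. -/
theorem mem_of_small [Finite S] (hS : IsPGroup 2 S) {P R : Subgroup Ω} (hP : F.StronglyClosed P)
    (hRc : F.IsCentric R) (hRr : F.IsRadical 2 R)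
    (N₀ : Subgroup (MulAut (P ⊓ R : Subgroup Ω))) [N₀.Normal] (hN₀ : IsPGroup 2 N₀) {g : Ω}
    (hgP : g ∈ P) (hgN : g ∈ Subgroup.normalizer (R : Set Ω))
    (hres : ∀ a : F.autGroup R, (a : MulAut R) = conjAut R g hgN → resHom hP hRc.1 a ∈ N₀) :
    g ∈ R := by
  have : Fact (Nat.Prime 2) := ⟨Nat.prime_two⟩
  have := finite_mulAut (S := S) hRc.1
  have hPn := stronglyClosed_le_normalizer' hP
  have hRQ : ∀ r ∈ R, ∀ q ∈ P ⊓ R, r * q * r⁻¹ ∈ P ⊓ R := fun r hr q hq =>
    ⟨(Subgroup.mem_normalizer_iff.1 (hPn (hRc.1 hr)) q).1 hq.1,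
      R.mul_mem (R.mul_mem hr hq.2) (R.inv_mem hr)⟩
  let B : Subgroup (F.autGroup R) :=
    { carrier := {a | ∀ x : R, ((a : MulAut R) x : Ω) * (x : Ω)⁻¹ ∈ P}
      one_mem' := fun x => by simp
      mul_mem' := by
        intro a b ha hb x
        have := P.mul_mem (ha ((b : MulAut R) x)) (hb x)
        simpa [mul_assoc] using this
      inv_mem' := by
        intro a ha x
        have := P.inv_mem (ha (((a⁻¹ : F.autGroup R) : MulAut R) x))
        simpa [mul_inv_rev] using this }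
  have hBn : B.Normal := by
    constructor
    intro a ha b x
    have h := apply_mem_inter hP hRc.1 b.2 (x := (a : MulAut R) (((b⁻¹ : F.autGroup R) : MulAut R) x) *
      (((b⁻¹ : F.autGroup R) : MulAut R) x)⁻¹) (ha _)
    have h1 := h.1
    rw [map_mul, map_inv] at h1
    simpa [MulAut.mul_apply] using h1
  have hK : IsPGroup 2 (B ⊓ N₀.comap (resHom hP hRc.1) : Subgroup (F.autGroup R)) := by
    refine isPGroup_of_coprime_trivial fun a ha => ?_
    obtain ⟨haB, haN⟩ := a.2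
    rw [← Subgroup.orderOf_coe] at ha
    have hres1 : resHom hP hRc.1 a = 1 := by
      obtain ⟨k, hk⟩ := hN₀ ⟨_, haN⟩
      refine orderOf_eq_one_iff.1 (Nat.eq_one_of_dvd_coprimes (ha.pow_right k)
        (orderOf_map_dvd _ _) (orderOf_dvd_of_pow_eq_one ?_))
      exact congrArg Subtype.val hk
    refine Subtype.ext (Subtype.ext (MulEquiv.ext fun x => ?_))
    have ha' : (orderOf ((a : F.autGroup R) : MulAut R)).Coprime 2 := by
      rwa [Subgroup.orderOf_coe]
    refine fix_of_step _ ha' x ?_ ((hS.to_le hRc.1) _)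
    set z := x⁻¹ * ((a : F.autGroup R) : MulAut R) x
    have hz : (z : Ω) ∈ P ⊓ R := by
      have h := hRQ (x : Ω)⁻¹ (R.inv_mem x.2)
        (((((a : F.autGroup R) : MulAut R) x : R) : Ω) * (x : Ω)⁻¹)
        ⟨haB x, R.mul_mem (SetLike.coe_mem _) (R.inv_mem x.2)⟩
      simpa [z, mul_assoc] using h
    have h := resHom_apply hP hRc.1 (a : F.autGroup R) ⟨(z : Ω), hz⟩
    rw [hres1] at h
    exact Subtype.ext h.symm
  have hgS : g ∈ S := hP.1 hgP
  refine mem_of_radical hRc hRr _ hK hgS hgN fun a ha => ⟨fun x => ?_, hres a ha⟩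
  rw [ha, conjAut_apply, mul_assoc, mul_assoc, ← mul_assoc (x : Ω)]
  exact P.mul_mem hgP ((Subgroup.mem_normalizer_iff.1 (hPn (hRc.1 x.2)) _).1 (P.inv_mem hgP))

/-- Main lemma. -/
theorem le_centric_radical_of_metacyclic [Finite S] (hS : IsPGroup 2 S) {P : Subgroup Ω}
    (hP : F.StronglyClosed P) (hm : Cfsg.IsMetacyclic P)
    (hd : ¬ ∃ m : ℕ, Nonempty (↥P ≃* DihedralGroup m))
    (hq : ¬ ∃ m : ℕ, Nonempty (↥P ≃* QuaternionGroup m))
    (hsd : ¬ Cfsg.IsQuasiDihedral ↥P) {R : Subgroup Ω} (hRc : F.IsCentric R)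
    (hRr : F.IsRadical 2 R) : P ≤ R := by
  classical
  have : Fact (Nat.Prime 2) := ⟨Nat.prime_two⟩
  have hPn := stronglyClosed_le_normalizer' hP
  have hRn : R ≤ Subgroup.normalizer (P : Set Ω) := hRc.1.trans hPn
  set Q := P ⊓ R with hQdef
  have hQS : Q ≤ S := inf_le_right.trans hRc.1
  have : Finite P := finite_of_le hP.1
  have : Finite Q := finite_of_le hQS
  have hQp : IsPGroup 2 Q := hS.to_le hQS
  have hinto : ∀ g ∈ P, g ∈ Subgroup.normalizer (R : Set Ω) → ∀ q ∈ Q, g * q * g⁻¹ ∈ Q :=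
    fun g hgP hgN q hq => ⟨P.mul_mem (P.mul_mem hgP hq.1) (P.inv_mem hgP),
      (Subgroup.mem_normalizer_iff.1 hgN q).1 hq.2⟩
  by_cases hA : IsPGroup 2 (MulAut Q)
  · refine le_of_normalized hS hRc.1 hP.1 hRn fun g hg hgN => ?_
    exact mem_of_small hS hP hRc hRr ⊤ (hA.to_subgroup _) hg hgN fun a _ => Subgroup.mem_top _
  have hmQ : Cfsg.IsMetacyclic Q :=
    RankTwo.isMetacyclic_of_injective (Subgroup.inclusion inf_le_left)
      (Subgroup.inclusion_injective _) hm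
  have hcases := Cfsg.Agent.S1896.result hQp hmQ hA
  have f1 : ∀ u : QuaternionGroup 2, u * u = 1 ∨ u * u = QuaternionGroup.a 2 := by decide
  have f2 : ∀ w u : QuaternionGroup 2, w * (u * u) * (w * (u * u)) = w * w := by decide
  have f3 : ∀ u v : QuaternionGroup 2, ∃ w, u * u * (v * v) = w * w := by decide
  have hzexp : ∀ (n : ℕ) (z : Multiplicative (ZMod (2 ^ n))), z ^ 2 ^ n = 1 := fun n z =>
    Multiplicative.toAdd.injective (by
      rw [toAdd_pow, nsmul_eq_mul, ZMod.natCast_self, zero_mul]; rfl)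
  have hQab : ∀ n : ℕ, ∀ e : Q ≃* Multiplicative (ZMod (2 ^ n)) × Multiplicative (ZMod (2 ^ n)),
      (∀ u v : Q, u * v = v * u) ∧ ∀ u : Q, u ^ 2 ^ n = 1 := fun n e =>
    ⟨fun u v => e.injective (by rw [map_mul, map_mul, mul_comm]),
      fun u => e.injective (by rw [map_pow, map_one]; exact Prod.ext (hzexp n _) (hzexp n _))⟩
  -- the subgroup of automorphisms
  obtain ⟨hD, hN₀⟩ : ∃ hD : ∀ u v : Q, ∃ w, u * u * (v * v) = w * w,
      IsPGroup 2 (modSquares hD) := by
    rcases hcases with ⟨⟨e⟩⟩ | ⟨n, ⟨e⟩⟩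
    · refine ⟨fun u v => ?_, isPGroup_modSquares_quaternion hQp _ fun w u => e.injective ?_⟩
      · obtain ⟨w, hw⟩ := f3 (e u) (e v)
        exact ⟨e.symm w, e.injective (by simp only [map_mul, e.apply_symm_apply, hw])⟩
      · simp only [map_mul, f2]
    · obtain ⟨hab, hexp⟩ := hQab n e
      exact ⟨fun u v => ⟨u * v, (show Commute u v from hab u v).mul_mul_mul_comm u v⟩,
        isPGroup_modSquares_abelian hQp _ hab hexp⟩
  have := modSquares_normal hD
  -- the centraliser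
  have hC : P ⊓ Subgroup.centralizer (Q : Set Ω) ≤ R := by
    refine le_of_normalized hS hRc.1 (inf_le_left.trans hP.1) (fun r hr => ?_) fun g hg hgN => ?_
    · rw [Subgroup.mem_normalizer_iff]
      have key : ∀ r ∈ R, ∀ x ∈ P ⊓ Subgroup.centralizer (Q : Set Ω),
          r * x * r⁻¹ ∈ P ⊓ Subgroup.centralizer (Q : Set Ω) := by
        intro r hr x hx
        refine ⟨(Subgroup.mem_normalizer_iff.1 (hRn hr) x).1 hx.1, fun q hq => ?_⟩
        have hq' : r⁻¹ * q * r ∈ Q := by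
          have h := hRn (R.inv_mem hr)
          refine ⟨?_, R.mul_mem (R.mul_mem (R.inv_mem hr) hq.2) hr⟩
          simpa using (Subgroup.mem_normalizer_iff.1 h q).1 hq.1
        have h := hx.2 _ hq'
        calc q * (r * x * r⁻¹) = r * ((r⁻¹ * q * r) * x) * r⁻¹ := by group
          _ = r * (x * (r⁻¹ * q * r)) * r⁻¹ := by rw [h]
          _ = r * x * r⁻¹ * q := by group
      refine fun x => ⟨key r hr x, fun hx => ?_⟩
      simpa [mul_assoc] using key r⁻¹ (R.inv_mem hr) _ hx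
    · refine mem_of_small hS hP hRc hRr (modSquares hD) hN₀ hg.1 hgN fun a ha q => ⟨1, ?_⟩
      apply Subtype.ext
      rw [resHom_apply, ha, conjAut_apply, Subgroup.coe_mul, Subgroup.coe_mul, OneMemClass.coe_one,
        mul_one, mul_one, mul_inv_eq_iff_eq_mul]
      exact (hg.2 _ q.2).symm
  -- a moving element
  by_contra hne
  obtain ⟨g₀, hg₀P, hg₀N, hg₀R⟩ : ∃ g, g ∈ P ∧ g ∈ Subgroup.normalizer (R : Set Ω) ∧ g ∉ R := by
    by_contra h
    push Not at h
    exact hne (le_of_normalized hS hRc.1 hP.1 hRn h)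
  have hex : ∃ k : ℕ, g₀ ^ 2 ^ k ∈ R := by
    obtain ⟨k, hk⟩ := (hS.to_le hP.1) ⟨g₀, hg₀P⟩
    refine ⟨k, ?_⟩
    rw [show g₀ ^ 2 ^ k = 1 from congrArg Subtype.val hk]
    exact one_mem _
  have hk0 : Nat.find hex ≠ 0 := fun h => hg₀R (by simpa [h] using Nat.find_spec hex)
  set g := g₀ ^ 2 ^ (Nat.find hex - 1) with hgdef
  have hgP : g ∈ P := P.pow_mem hg₀P _
  have hgN : g ∈ Subgroup.normalizer (R : Set Ω) := Subgroup.pow_mem _ hg₀N _
  have hgR : g ∉ R := Nat.find_min hex (by omega)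
  have hgg : g * g ∈ Q := by
    refine ⟨P.mul_mem hgP hgP, ?_⟩
    rw [hgdef, ← pow_add, ← two_mul, ← pow_succ',
      show Nat.find hex - 1 + 1 = Nat.find hex by omega]
    exact Nat.find_spec hex
  obtain ⟨a, ha, hmove⟩ : ∃ a ∈ Q, ∀ w ∈ Q, g * a * g⁻¹ ≠ a * (w * w) := by
    by_contra h
    push Not at h
    refine hgR (mem_of_small hS hP hRc hRr (modSquares hD) hN₀ hgP hgN fun b hb q => ?_)
    obtain ⟨w, hw, hwe⟩ := h q q.2
    refine ⟨⟨w, hw⟩, Subtype.ext ?_⟩
    rw [resHom_apply, hb, conjAut_apply]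
    exact hwe
  -- inside `P`
  have eQ : (Q.subgroupOf P) ≃* Q := Subgroup.subgroupOfEquivOfLe inf_le_left
  have hPp : IsPGroup 2 P := hS.to_le hP.1
  have hCP : Subgroup.centralizer ((Q.subgroupOf P : Subgroup P) : Set P) ≤ Q.subgroupOf P := by
    intro c hc
    refine ⟨c.2, hC ⟨c.2, fun q hq => ?_⟩⟩
    exact congrArg Subtype.val (hc ⟨q, hq.1⟩ (show q ∈ Q from hq))
  have hmove' : ∀ w ∈ Q.subgroupOf P, (⟨g, hgP⟩ : P) * ⟨a, ha.1⟩ * (⟨g, hgP⟩ : P)⁻¹ ≠
      ⟨a, ha.1⟩ * (w * w) := fun w hw h => hmove w hw (congrArg Subtype.val h)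
  rcases hcases with ⟨⟨e⟩⟩ | ⟨n, ⟨e⟩⟩
  · rcases quaternion_of_eight hPp (Q.subgroupOf P) (eQ.trans e) hCP (x := ⟨a, ha.1⟩)
      (g := ⟨g, hgP⟩) ha hmove' with h | h
    · exact hq h
    · exact hsd h
  · rcases Nat.lt_or_ge n 2 with hn | hn
    · obtain ⟨-, hexp⟩ := hQab n e
      interval_cases n
      · have h1 : a = 1 := by simpa using congrArg Subtype.val (hexp ⟨a, ha⟩)
        exact hmove 1 Q.one_mem (by simp [h1])
      · have hac : (⟨a, ha.1⟩ : P) ∉ Subgroup.center P := fun h => hmove 1 Q.one_mem (by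
          have := congrArg Subtype.val (Subgroup.mem_center_iff.1 h ⟨g, hgP⟩)
          simp only [Subgroup.coe_mul] at this
          rw [one_mul, mul_one, this, mul_inv_cancel_right])
        rcases dihedral_of_four hPp (Q.subgroupOf P) (by
            rw [Nat.card_congr (eQ.trans e).toEquiv, Nat.card_prod,
              Nat.card_congr Multiplicative.toAdd, Nat.card_zmod]; norm_num)
          (fun q hq => Subtype.ext (by
            have h := congrArg Subtype.val (hexp ⟨q, hq⟩)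
            simpa [pow_two] using h)) hCP (x := ⟨a, ha.1⟩) ha hac with h | h
        · exact hd h
        · exact hsd h
    · exact not_moved_homocyclic hn hm (Q.subgroupOf P) (eQ.trans e) (x := ⟨g, hgP⟩)
        (fun q hq => hinto g hgP hgN q hq) (fun h => hgR h.2) hgg (a := ⟨a, ha.1⟩) ha hmove'

end Cfsg.Agent.Lib.Fusion90
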